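import Groth.Agent.AlgzLib.Embed
import Groth.Agent.AlgzLib.Gens
import Groth.Agent.GradedCechLib.Chart
import Groth.Agent.GenusZeroLib.PSpace

/-!
# Morphisms between projective spaces fixing the coordinates
-/

set_option autoImplicit false
set_option linter.style.haveILetI false
set_option backward.isDefEq.respectTransparency false

universe u

open CategoryTheory CategoryTheory.Limits AlgebraicGeometry TopologicalSpace MvPolynomial
open AmpleLib (res GenAt)
open TwistLib (genSet)
open KFlatLib (pb puSec)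
open AlgzLib (O1 glob)
open GradedCechLib

noncomputable section

namespace PnRigidLib

variable (m : ℕ) (R : Type u) [CommRing R]

theorem isInvertible_O1 : PicF.IsInvertible (O1 m R) := (FormalCohLib.isAmple_twistProjSpace m R).1

theorem genSet_glob (k : Fin (m + 1)) :
    genSet (isInvertible_O1 m R) (glob (R := R) k) =
      (Proj.basicOpen (CohB1.polyGrading m R) (MvPolynomial.X k) : (Proj (CohB1.polyGrading m R)).Opens) := by
  ext y
  change GenAt (O1 m R) (glob (R := R) k) _ ↔ y ∈ Proj.basicOpen (CohB1.polyGrading m R) (MvPolynomial.X k)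
  rw [← AlgzLib.coordι_basis k,
    show y ∈ Proj.basicOpen (CohB1.polyGrading m R) (AlgzLib.coordι m R (Pi.basisFun R (Fin (m + 1)) k)) ↔
      (𝟙 (Proj (CohB1.polyGrading m R)) : _ ⟶ _) y ∈
        Proj.basicOpen (CohB1.polyGrading m R) (AlgzLib.coordι m R (Pi.basisFun R (Fin (m + 1)) k)) from Iff.rfl,
    ← TwistLib.SymUP.genAt_pull_iff (CohB1.polyGrading m R) (AlgzLib.coordι m R) AlgzLib.coordι_mem
      AlgzLib.coordι_sym (𝟙 _) _ y, ← AlgzLib.glob_eq k]
  exact (AlgzLib.genAt_puSec_iff (𝟙 _) (isInvertible_O1 m R) (W := ⊤) _ (x := y)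
    (show _ ∈ (⊤ : (Proj (CohB1.polyGrading m R)).Opens) from trivial)).symm

theorem closure_chart (i : Fin (m + 1)) :
    Subring.closure (Set.range (cstOn m R (QCohLib.stdOpen m R i)) ∪ Set.range fun j => deh m R i (X j)) = ⊤ := by
  refine eq_top_iff.2 fun z _ => ?_
  obtain ⟨p, rfl⟩ := deh_surjective m R i z
  induction p using MvPolynomial.induction_on with
  | C r => rw [deh_C]; exact Subring.subset_closure (Or.inl ⟨r, rfl⟩)
  | add p q hp hq => rw [map_add]; exact add_mem (hp trivial) (hq trivial)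
  | mul_X p j hp => rw [map_mul]; exact mul_mem (hp trivial) (Subring.subset_closure (Or.inr ⟨j, rfl⟩))

theorem deh_smul_glob (i j : Fin (m + 1)) :
    (show Γ(Proj (CohB1.polyGrading m R), Proj.basicOpen (CohB1.polyGrading m R) (MvPolynomial.X i)) from
        deh m R i (X j)) •
      res (O1 m R) (le_top : Proj.basicOpen (CohB1.polyGrading m R) (MvPolynomial.X i) ≤ ⊤) (glob (R := R) i) =
      res (O1 m R) le_top (glob (R := R) j) := by
  refine Eq.trans ?_ (TwistLib.frac_smul_globalOf (CohB1.polyGrading m R) (MvPolynomial.isHomogeneous_X R i)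
    (MvPolynomial.isHomogeneous_X R j))
  congr 1
  show toSec m R i (deh₀ m R i (X j)) = _
  rw [deh₀_X]
  rfl

variable {m} {R} {A : Type u} [CommRing A]

/-- A morphism over a surjection of rings which fixes the coordinates is a closed immersion. -/
theorem isClosedImmersion_of_coord (φ : A →+* R) (hφ : Function.Surjective φ)
    (r : Proj (CohB1.polyGrading m R) ⟶ Proj (CohB1.polyGrading m A))
    (hr : r ≫ AmpleThLib.baseA (CohB1.polyGrading m A) =
      CohB1.ProjSpace.toSpec m R ≫ Spec.map (CommRingCat.ofHom φ))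
    (τ : pb r (O1 m A) ≅ O1 m R) (hτ : ∀ k, τ.hom.app ⊤ (puSec r (glob (R := A) k)) = glob (R := R) k) :
    IsClosedImmersion r := by
  haveI := FormalCohLib.isProper_projToSpec m R
  haveI : IsClosedImmersion (Spec.map (CommRingCat.ofHom φ)) := IsClosedImmersion.spec_of_surjective _ hφ
  haveI : IsProper (show Proj (CohB1.polyGrading m R) ⟶ Spec (CommRingCat.of A) from
      CohB1.ProjSpace.toSpec m R ≫ Spec.map (CommRingCat.ofHom φ)) :=
    inferInstanceAs (IsProper (CohB1.ProjSpace.toSpec m R ≫ Spec.map (CommRingCat.ofHom φ)))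
  refine AlgzLib.isClosedImmersion_of_τ (show Proj (CohB1.polyGrading m R) ⟶ Spec (CommRingCat.of A) from
      CohB1.ProjSpace.toSpec m R ≫ Spec.map (CommRingCat.ofHom φ))
    (isInvertible_O1 m R) r hr τ _ hτ Set.univ (fun y => ?_) (fun k _ => ?_) fun k _ => ?_
  · obtain ⟨k, hk⟩ := Opens.mem_iSup.mp ((QCohLib.iSup_stdOpen m R).ge (Opens.mem_top (y : CohB1.ProjSpace m R)))
    exact ⟨k, trivial, by rw [genSet_glob]; exact hk⟩
  · rw [genSet_glob]
    exact Proj.isAffineOpen_basicOpen _ _ (MvPolynomial.isHomogeneous_X R k) one_pos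
  · rw [genSet_glob]
    refine eq_top_iff.2 ((closure_chart m R k).ge.trans (Subring.closure_mono ?_))
    rintro _ (⟨c, rfl⟩ | ⟨j, rfl⟩)
    · obtain ⟨a, rfl⟩ := hφ c
      refine Or.inl ⟨(Scheme.ΓSpecIso (CommRingCat.of A)).inv a, ?_⟩
      show _ = resO m R _ (Coh.toGlobal (CohB1.ProjSpace.toSpec m R) (φ a))
      rw [← Scheme.Hom.appLE_comp_appLE (CohB1.ProjSpace.toSpec m R) (Spec.map (CommRingCat.ofHom φ)) ⊤ ⊤ _
        le_top le_top]
      have h := ConcreteCategory.congr_hom (Scheme.ΓSpecIso_inv_naturality (CommRingCat.ofHom φ)) a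
      rw [show (Spec.map (CommRingCat.ofHom φ)).appLE ⊤ ⊤ le_top = (Spec.map (CommRingCat.ofHom φ)).appTop from
        Scheme.Hom.appLE_eq_app _]
      exact (congrArg (fun z => (CohB1.ProjSpace.toSpec m R).appLE ⊤ (QCohLib.stdOpen m R k) le_top z) h).symm
    · exact Or.inr ⟨j, deh_smul_glob m R k j⟩

end PnRigidLib
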