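import Groth.Agent.PnRigidLib.Coord
import Groth.Agent.PicPnLib.BaseChange
import Groth.Agent.FibreIsoLib.Main
import Groth.Agent.H0Lib.IsoLocus
import Groth.Agent.CohCmpLib.CanonApps
import Groth.Agent.CohCmpLib.LiftSection
import Groth.Agent.ProjBunLib.Quot

/-!
# Tools for rigidity of projective space over a complete local ring
-/

set_option autoImplicit false
set_option linter.style.haveILetI false
set_option backward.isDefEq.respectTransparency false
set_option maxHeartbeats 1000000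
set_option maxRecDepth 4000

universe u

open CategoryTheory CategoryTheory.Limits AlgebraicGeometry TopologicalSpace
open AmpleLib (GenAt)
open TwistLib (genSet)
open KFlatLib (pb puSec)

noncomputable section

namespace PnRigidLib

section

variable {X Y Z : Scheme.{u}}

/-- Pulling back along a composite the identification of a pullback. -/
def compIso (c : Z ⟶ X) (ρ : X ⟶ Y) {N : Y.Modules} {L : X.Modules} {M : Z.Modules} (τ : pb ρ N ≅ L)
    (ψ : pb c L ≅ M) : pb (c ≫ ρ) N ≅ M :=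
  ((Scheme.Modules.pullbackComp c ρ).app N).symm ≪≫ (Scheme.Modules.pullback c).mapIso τ ≪≫ ψ

theorem compIso_puSec (c : Z ⟶ X) (ρ : X ⟶ Y) {N : Y.Modules} {L : X.Modules} {M : Z.Modules} (τ : pb ρ N ≅ L)
    (ψ : pb c L ≅ M) (n : Γ(N, ⊤)) (l : Γ(L, ⊤)) (hτ : τ.hom.app ⊤ (puSec ρ n) = l) :
    (compIso c ρ τ ψ).hom.app ⊤ (puSec (c ≫ ρ) n) = ψ.hom.app ⊤ (puSec c l) := by
  show ψ.hom.app ⊤ (((Scheme.Modules.pullback c).map τ.hom).app ⊤
    (((Scheme.Modules.pullbackComp c ρ).inv.app N).app ⊤ (puSec (c ≫ ρ) n))) = _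
  refine congrArg (ψ.hom.app ⊤) ?_
  exact (congrArg (fun z => ((Scheme.Modules.pullback c).map τ.hom).app ⊤ z)
    (CohCmpLib.pullbackComp_inv_puSec c ρ N n)).trans
    ((KFlatLib.puSec_natural c τ.hom (puSec ρ n)).trans (congrArg (puSec c) hτ))

theorem preimage_genSet (c : Z ⟶ X) {L : X.Modules} {M : Z.Modules} (hL : PicF.IsInvertible L)
    (hM : PicF.IsInvertible M) (ψ : pb c L ≅ M) (v : Γ(L, ⊤)) :
    c ⁻¹ᵁ genSet hL v = genSet hM (ψ.hom.app ⊤ (puSec c v)) := by
  ext y
  change GenAt L v _ ↔ GenAt M (ψ.hom.app ⊤ (puSec c v)) _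
  rw [← AlgzLib.genAt_puSec_iff c hL v (x := y) (show c y ∈ (⊤ : X.Opens) from trivial)]
  exact (TwistLib.genAt_app_iso ψ (W := ⊤) _ _).symm

end

variable {A : Type u} [CommRing A] [IsLocalRing A] {X P : Scheme.{u}} (f : X ⟶ Spec (CommRingCat.of A))

/-- Sections of the closed fibre lift to global sections. -/
theorem exists_lift [QuasiCompact f] [QuasiSeparated f] {L : X.Modules} [Coh.IsQCoh L]
    (s : Spec (CommRingCat.of A)) (hs : s = IsLocalRing.closedPoint A)
    (he : Epi (CohBC.bc0 f ((Spec (CommRingCat.of A)).fromSpecResidueField s) (f.fiberToSpecResidueField s)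
      (f.fiberι s) (f.fiber_fac s) L))
    (b : P ⟶ f.fiber s) [IsIso b] {M : P.Modules} (ψ : pb (b ≫ f.fiberι s) L ≅ M) (σ₀ : Γ(M, ⊤)) :
    ∃ w : Γ(L, ⊤), ψ.hom.app ⊤ (puSec (b ≫ f.fiberι s) w) = σ₀ := by
  let φ : pb b (CohIII.fiberMod f L s) ≅ M := (Scheme.Modules.pullbackComp b (f.fiberι s)).app L ≪≫ ψ
  obtain ⟨σ, hσ⟩ := (ProjBunLib.puSec_bijective b (CohIII.fiberMod f L s) (W := ⊤)
    (fun x _ => ⟨inv b x, by rw [← Scheme.Hom.comp_apply, IsIso.inv_hom_id]; rfl⟩)).2 (φ.inv.app ⊤ σ₀)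
  obtain ⟨O, hO, hle, w, hw⟩ := CohCmpLib.exists_lift_section f s he σ
  have hO' : O = ⊤ := top_le_iff.mp fun x _ => (IsLocalRing.specializes_closedPoint x).mem_open O.2 (hs ▸ hO)
  subst hO'
  refine ⟨w, ?_⟩
  have hw' : puSec (f.fiberι s) (U := ⊤) w = σ := by
    rw [← hw, KFlatLib.puSecLE_apply]
    exact (congr($((CohIII.fiberMod f L s).presheaf.map_id _) _)).symm
  have h1 : φ.hom.app ⊤ (φ.inv.app ⊤ σ₀) = σ₀ := congr(Scheme.Modules.Hom.app $(φ.inv_hom_id) ⊤ σ₀)
  rw [← hσ, ← hw'] at h1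
  refine Eq.trans (congrArg (ψ.hom.app ⊤) ?_) h1
  exact (CohCmpLib.pullbackComp_puSec b (f.fiberι s) L w).symm

/-- An open containing the closed fibre is everything. -/
theorem eq_top_of_fibre [UniversallyClosed f] (V : X.Opens) (hV : ∀ x, f x = IsLocalRing.closedPoint A → x ∈ V) :
    V = ⊤ := by
  refine top_le_iff.1 fun x _ => ?_
  have hC : IsClosed (f '' closure {x}) := f.isClosedMap _ isClosed_closure
  obtain ⟨x₀, hx₀, hxs⟩ : IsLocalRing.closedPoint A ∈ f '' closure {x} :=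
    (IsLocalRing.specializes_closedPoint (f x)).mem_closed hC ⟨x, subset_closure rfl, rfl⟩
  exact (specializes_iff_mem_closure.2 hx₀).mem_open V.2 (hV x₀ hxs)

/-- A morphism which is an isomorphism on closed fibres is an isomorphism. -/
theorem isIso_of_closedFibre {Y : Scheme.{u}} (ρ : X ⟶ Y) (h : Y ⟶ Spec (CommRingCat.of A)) [IsProper h]
    [IsProper ρ] [LocallyOfFinitePresentation h] [LocallyOfFinitePresentation (ρ ≫ h)] [Flat (ρ ≫ h)]
    {P : Scheme.{u}} {c : P ⟶ X} {p : P ⟶ Spec (CommRingCat.of (IsLocalRing.ResidueField A))}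
    (hc : IsPullback c p (ρ ≫ h) (Spec.map (CommRingCat.ofHom (IsLocalRing.residue A))))
    (w : P ⟶ pullback h (Spec.map (CommRingCat.ofHom (IsLocalRing.residue A)))) [IsIso w]
    (hw₁ : w ≫ pullback.fst _ _ = c ≫ ρ) (hw₂ : w ≫ pullback.snd _ _ = p) : IsIso ρ := by
  have hsqw : IsPullback c w ρ (pullback.fst h (Spec.map (CommRingCat.ofHom (IsLocalRing.residue A)))) := by
    refine IsPullback.of_bot ?_ hw₁.symm (IsPullback.of_hasPullback h _)
    rw [hw₂]
    exact hc
  haveI : IsIso (MoreMor.fiberMap ρ h (IsLocalRing.closedPoint A)) := by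
    refine (FibreIsoLib.isIso_snd_point_iff ρ h (K := IsLocalRing.ResidueField A)
      (Spec.map (CommRingCat.ofHom (IsLocalRing.residue A))) _ fun x => ?_).1 ?_
    · rw [show x = IsLocalRing.closedPoint (IsLocalRing.ResidueField A) from Subsingleton.elim _ _]
      exact IsLocalRing.comap_closedPoint (IsLocalRing.residue A)
    · rw [← hsqw.isoPullback_inv_snd]
      infer_instance
  have hloc : ∀ y : Y, ∃ V : Y.Opens, y ∈ V ∧ IsIso (ρ ∣_ V) := by
    intro y
    have hC : IsClosed (h '' closure {y}) := h.isClosedMap _ isClosed_closure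
    obtain ⟨y₀, hy₀, hys⟩ : IsLocalRing.closedPoint A ∈ h '' closure {y} :=
      (IsLocalRing.specializes_closedPoint (h y)).mem_closed hC ⟨y, subset_closure rfl, rfl⟩
    obtain ⟨V, hyV, hV⟩ := H0Lib.exists_isIso_nhd ρ h _ y₀ hys
    exact ⟨V, (specializes_iff_mem_closure.2 hy₀).mem_open V.2 hyV, hV⟩
  choose V hyV hV using hloc
  exact IsZariskiLocalAtTarget.of_iSup_eq_top (P := MorphismProperty.isomorphisms Scheme.{u}) V
    (top_le_iff.1 fun y _ => Opens.mem_iSup.2 ⟨y, hyV y⟩) hV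

/-- A closed immersion into the closed fibre of projective space is an isomorphism. -/
theorem exists_iso_fibre (r : ℕ) (c : CohB1.ProjSpace r (IsLocalRing.ResidueField A) ⟶ CohB1.ProjSpace r A)
    [IsClosedImmersion c] (hc : c ≫ CohB1.ProjSpace.toSpec r A =
      CohB1.ProjSpace.toSpec r (IsLocalRing.ResidueField A) ≫ Spec.map (CommRingCat.ofHom (IsLocalRing.residue A))) :
    IsIso (pullback.lift c (CohB1.ProjSpace.toSpec r (IsLocalRing.ResidueField A)) hc) := by
  let k := IsLocalRing.ResidueField A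
  let res := Spec.map (CommRingCat.ofHom (IsLocalRing.residue A))
  let h := CohB1.ProjSpace.toSpec r A
  obtain ⟨qk, hqk, -⟩ := PicPnLib.exists_map r k
  obtain ⟨qA, hqA, -⟩ := PicPnLib.exists_map r A
  let j : CohB1.ProjSpace r k ⟶ CohB1.ProjSpace r A := hqA.lift qk (CohB1.ProjSpace.toSpec r k ≫ res) (by
    rw [Category.assoc, specULiftZIsTerminal.hom_ext (res ≫ specULiftZIsTerminal.from _)
      (specULiftZIsTerminal.from _)]
    exact hqk.w)
  have hj : IsPullback j (CohB1.ProjSpace.toSpec r k) h res := by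
    refine IsPullback.of_right ?_ (hqA.lift_snd _ _ _) hqA
    rw [hqA.lift_fst, specULiftZIsTerminal.hom_ext (res ≫ specULiftZIsTerminal.from _)
      (specULiftZIsTerminal.from _)]
    exact hqk
  let w : CohB1.ProjSpace r k ⟶ pullback h res := pullback.lift c (CohB1.ProjSpace.toSpec r k) hc
  haveI : IsSeparated h := (FormalCohLib.isProper_projToSpec r A).toIsSeparated
  haveI : IsClosedImmersion w := by
    haveI : IsClosedImmersion (w ≫ pullback.fst h res) := by rw [pullback.lift_fst]; infer_instance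
    exact IsClosedImmersion.of_comp w (pullback.fst h res)
  haveI : Nonempty ↥(CohB1.ProjSpace r k) := (GenusZeroLib.irreducibleSpace_projSpace k r).toNonempty
  haveI : IsIso (w ≫ hj.isoPullback.inv) :=
    GenusZeroLib.isIso_of_isClosedImmersion k r (w ≫ hj.isoPullback.inv) (GenusZeroLib.dim_projSpace k r)
  exact IsIso.of_isIso_comp_right w hj.isoPullback.inv

end PnRigidLib
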